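import Groth.Agent.MultTypeQI.EtaleLocal
import Groth.Agent.MultTypeQI.Flat
import Groth.Agent.HomRepLib.DiagHom
import Groth.Agent.HomRepLib.FiniteRep
import Groth.Agent.GrpSchLib.SmoothReduced
import Groth.Agent.GrpSchLib.HomUnitLocus
import Groth.Agent.EtFound.TopInv
import Groth.Agent.UnramMisc.QFSmooth
import Groth.Agent.FlatMisc.Fibrewise

/-!
# Torsion of finite smooth groups of multiplicative type, and equality of points of unramified schemes
-/

set_option linter.style.haveILetI false

universe u

open CategoryTheory CategoryTheory.Limits MonoidalCategory CartesianMonoidalCategory MonObj GrpObj AlgebraicGeometry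

namespace Groth.Agent.CentralMT

set_option backward.isDefEq.respectTransparency.types false

/-- Two maps into an unramified scheme which agree after a surjection agree. -/
theorem eq_of_unramified {X Y T T' : Scheme.{u}} (f : X ⟶ Y) [FormallyUnramified f] [LocallyOfFiniteType f]
    (a b : T ⟶ X) (h : a ≫ f = b ≫ f) (t : T' ⟶ T) [Surjective t] (e : t ≫ a = t ≫ b) : a = b := by
  let c : T ⟶ pullback f f := pullback.lift a b h
  have hr : Set.range c ⊆ Set.range (pullback.diagonal f) := by
    rintro _ ⟨p, rfl⟩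
    obtain ⟨q, rfl⟩ := t.surjective p
    refine ⟨(t ≫ a) q, ?_⟩
    rw [← Scheme.Hom.comp_apply, ← Scheme.Hom.comp_apply]
    refine congrArg (fun k : T' ⟶ pullback f f => k q) (pullback.hom_ext ?_ ?_)
    · simp only [c, Category.assoc, pullback.diagonal_fst, Category.comp_id, pullback.lift_fst]
    · simp only [c, Category.assoc, pullback.diagonal_snd, Category.comp_id, pullback.lift_snd, e]
  have hl := IsOpenImmersion.lift_fac (pullback.diagonal f) c hr
  have e1 := congrArg (· ≫ pullback.fst f f) hl
  have e2 := congrArg (· ≫ pullback.snd f f) hl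
  simp only [c, Category.assoc, pullback.diagonal_fst, pullback.diagonal_snd, Category.comp_id,
    pullback.lift_fst, pullback.lift_snd] at e1 e2
  exact e1.symm.trans e2

/-- The order of a finite diagonalisable group which is smooth over a field is invertible in that field. -/
theorem card_ne_zero {K : Type u} [Field K] (M : Type) [AddCommGroup M] [Finite M]
    [Smooth (Red.DS (Spec (CommRingCat.of K)) M).hom] : (Nat.card M : K) ≠ 0 := by
  classical
  intro h0
  obtain ⟨p, hp⟩ := CharP.exists K
  obtain hp' | rfl := CharP.char_is_prime_or_zero K p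
  swap
  · haveI : CharZero K := CharP.charP_to_charZero K
    exact Nat.card_pos.ne' (Nat.cast_eq_zero.mp h0)
  haveI := Fact.mk hp'
  obtain ⟨m, hm⟩ := exists_prime_addOrderOf_dvd_card' (G := M) p ((CharP.cast_eq_zero_iff K p _).mp h0)
  let B := MonoidAlgebra K (Multiplicative M)
  obtain ⟨e⟩ := GrpSchLib.AffineHopf.nonempty_DS_iso K M
  haveI : IsIso e.hom.hom.hom.left :=
    ⟨e.inv.hom.hom.left, congrArg (fun h => h.hom.hom.left) e.hom_inv_id,
      congrArg (fun h => h.hom.hom.left) e.inv_hom_id⟩
  haveI : Smooth (Spec.map (CommRingCat.ofHom (algebraMap K B))) := by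
    rw [show Spec.map (CommRingCat.ofHom (algebraMap K B)) =
      e.hom.hom.hom.left ≫ (Red.DS (Spec (CommRingCat.of K)) M).hom from (Over.w e.hom.hom.hom).symm]
    exact MorphismProperty.comp_mem @Smooth _ _ (inferInstanceAs (Smooth e.hom.hom.hom.left)) ‹_›
  haveI : IsReduced (Spec (CommRingCat.of B)) :=
    GrpSchLib.isReduced_of_smooth_field (Spec.map (CommRingCat.ofHom (algebraMap K B)))
  haveI : _root_.IsReduced B := (affine_isReduced_iff (CommRingCat.of B)).mp ‹_›
  haveI : CharP B p := charP_of_injective_algebraMap (algebraMap K B).injective p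
  let z : B := MonoidAlgebra.single (Multiplicative.ofAdd m) 1
  have h1 : (z - 1) ^ p = 0 := by
    rw [sub_pow_char, one_pow, MonoidAlgebra.single_pow, one_pow, ← ofAdd_nsmul, ← hm, addOrderOf_nsmul_eq_zero,
      ofAdd_zero, ← MonoidAlgebra.one_def, sub_self]
  have h2 : z = 1 := sub_eq_zero.mp (IsNilpotent.eq_zero ⟨p, h1⟩)
  rw [MonoidAlgebra.one_def] at h2
  have h3 : m = 0 := congrArg Multiplicative.toAdd (MonoidAlgebra.single_left_injective one_ne_zero h2)
  rw [h3, addOrderOf_zero] at hm
  exact hp'.ne_one hm.symm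

/-- A point of a finite diagonalisable group is killed by the order. -/
theorem DS_pow_card {S : Scheme.{u}} {M : Type} [AddCommGroup M] [Finite M] {X : Over S}
    (x : X ⟶ Red.DS S M) : x ^ Nat.card M = 1 := by
  refine HomRepLib.ev_ext fun m => ?_
  have h : ∀ n : ℕ, HomRepLib.ev (x ^ n) m = HomRepLib.ev x (n • m) := by
    intro n
    induction n with
    | zero => rw [pow_zero, zero_smul, HomRepLib.ev_one, HomRepLib.ev_zero]
    | succ n ih => rw [pow_succ, HomRepLib.ev_mul, ih, succ_nsmul, HomRepLib.ev_add]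
  rw [h, card_nsmul_eq_zero', HomRepLib.ev_zero, HomRepLib.ev_one]

/-- Base change respects powers. -/
theorem theta_pow {S U : Scheme.{u}} (g : U ⟶ S) {Y : Over U} {H : Over S} [GrpObj H] (a : Y ⟶ Red.bc g H)
    (n : ℕ) : DSPtsLib.theta g (a ^ n) = DSPtsLib.theta g a ^ n := by
  induction n with
  | zero => rw [pow_zero, pow_zero, GrpSchLib.HomUnitLocus.theta_one]
  | succ n ih => rw [pow_succ, pow_succ, DSPtsLib.theta_mul, ih]

theorem map_pow {S U : Scheme.{u}} (g : U ⟶ S) {X H : Over S} [GrpObj H] (a : X ⟶ H) (n : ℕ) :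
    (Over.pullback g).map (a ^ n) = (Over.pullback g).map a ^ n := by
  induction n with
  | zero => rw [pow_zero, pow_zero, Functor.map_one]
  | succ n ih => rw [pow_succ, pow_succ, Functor.map_mul, ih]

/-- A finite smooth morphism is etale. -/
theorem etale_of_finite_smooth {X Y : Scheme.{u}} (f : X ⟶ Y) [Smooth f] [IsFinite f] : Etale f := by
  haveI : LocallyQuasiFinite f := inferInstance
  exact UnramMisc.etale_of_smooth_of_locallyQuasiFinite f

/-- Locally on the base a finite smooth group of multiplicative type is killed by an invertible integer. -/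
theorem exists_torsion {S : Scheme.{u}} {H : Over S} [GrpObj H] [Smooth H.hom] [IsFinite H.hom]
    (hH : SGA3x.IsMultTypeFT H) (s : S) :
    ∃ (V : S.Opens) (n : ℕ), s ∈ V ∧ (∀ p : H.left, H.hom p ∈ V → (n : H.left.residueField p) ≠ 0) ∧
      ∀ (X : Over S) (x : X ⟶ H), (∀ q, X.hom q ∈ V) → x ^ n = 1 := by
  obtain ⟨S', f, hf, ⟨y, rfl⟩, M, _, -, ⟨e⟩⟩ := MultTypeQI.etale_locally_diag hH s
  haveI : Etale f := hf
  haveI : IsIso e.inv.hom.hom.left :=
    ⟨e.hom.hom.hom.left, congrArg (fun h => h.hom.hom.left) e.inv_hom_id,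
      congrArg (fun h => h.hom.hom.left) e.hom_inv_id⟩
  have hw : e.inv.hom.hom.left ≫ (Red.bc f H).hom = (Red.DS S' M).hom := Over.w e.inv.hom.hom
  haveI : IsFinite (Red.bc f H).hom := inferInstanceAs (IsFinite (pullback.snd H.hom f))
  haveI : Smooth (Red.bc f H).hom := inferInstanceAs (Smooth (pullback.snd H.hom f))
  haveI : IsFinite (Red.DS S' M).hom := by rw [← hw]; infer_instance
  haveI : Smooth (Red.DS S' M).hom := by rw [← hw]; infer_instance
  haveI : Finite M := HomRepLib.finite_of_isFinite_DS y M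
  let V : S.Opens := ⟨Set.range f, f.isOpenMap.isOpen_range⟩
  refine ⟨V, Nat.card M, ⟨y, rfl⟩, ?_, ?_⟩
  · rintro p ⟨y', hy'⟩ h0
    let k : Type u := S'.residueField y'
    obtain ⟨e₁⟩ := GrpSchLib.MultTypeBC.bc_DS (S'.fromSpecResidueField y') M
    haveI : Smooth (Red.DS (Spec (CommRingCat.of k)) M).hom := by
      haveI : IsIso e₁.inv.hom.hom.left :=
        ⟨e₁.hom.hom.hom.left, congrArg (fun h => h.hom.hom.left) e₁.inv_hom_id,
          congrArg (fun h => h.hom.hom.left) e₁.hom_inv_id⟩
      haveI : Smooth (Red.bc (S'.fromSpecResidueField y') (Red.DS S' M)).hom :=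
        inferInstanceAs (Smooth (pullback.snd _ _))
      rw [show (Red.DS (Spec (CommRingCat.of k)) M).hom =
        e₁.inv.hom.hom.left ≫ (Red.bc (S'.fromSpecResidueField y') (Red.DS S' M)).hom from
        (Over.w e₁.inv.hom.hom).symm]
      infer_instance
    apply card_ne_zero (K := k) M
    have h1 : (Nat.card M : S.residueField (H.hom p)) = 0 := by
      apply (H.hom.residueFieldMap p).hom.injective
      rw [_root_.map_natCast, map_zero]
      exact h0
    have h2 : (Nat.card M : S.residueField (f y')) = 0 := by rw [hy']; exact h1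
    have := congrArg (f.residueFieldMap y').hom h2
    rwa [_root_.map_natCast, map_zero] at this
  · intro X x hX
    haveI : Etale H.hom := etale_of_finite_smooth H.hom
    haveI : Surjective (pullback.fst X.hom f) := ⟨fun q => by
      obtain ⟨y', hy'⟩ := hX q
      obtain ⟨z, hz, -⟩ := Scheme.Pullback.exists_preimage_pullback q y' hy'.symm
      exact ⟨z, hz⟩⟩
    refine Over.OverMorphism.ext (eq_of_unramified H.hom _ _
      ((Over.w (x ^ Nat.card M)).trans (Over.w (1 : X ⟶ H)).symm) (pullback.fst X.hom f) ?_)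
    let Y : Over S' := Over.mk (pullback.snd X.hom f)
    let r : (Over.map f).obj Y ⟶ X := Over.homMk (pullback.fst X.hom f) pullback.condition
    obtain ⟨a, ha⟩ := (DSPtsLib.theta_bijective (g := f) (Y := Y) (H := H)).2 (r ≫ x)
    have ha1 : a ^ Nat.card M = 1 := by
      have hM : IsMonHom e.hom.hom.hom := inferInstance
      have h2 : (a ≫ e.hom.hom.hom) ^ Nat.card M = 1 := DS_pow_card _
      rw [← MonObj.pow_comp, ← MonObj.one_comp e.hom.hom.hom] at h2
      exact (cancel_mono e.hom.hom.hom).mp h2
    have h3 : r ≫ x ^ Nat.card M = r ≫ 1 := by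
      rw [MonObj.comp_pow, ← ha, ← theta_pow, ha1, GrpSchLib.HomUnitLocus.theta_one, MonObj.comp_one]
    exact congrArg (fun k => k.left) h3

/-- A flat scheme locally of finite presentation which is etale over a closed subscheme with the same points is
etale. -/
theorem etale_of_bc {S₀ S : Scheme.{u}} (i : S₀ ⟶ S) [IsClosedImmersion i] [Surjective i] {X : Scheme.{u}}
    (f : X ⟶ S) [Flat f] [LocallyOfFinitePresentation f] [Etale (pullback.snd f i)] : Etale f := by
  haveI : LocallyOfFinitePresentation (f ≫ 𝟙 S) := by rwa [Category.comp_id]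
  haveI : Flat (f ≫ 𝟙 S) := by rwa [Category.comp_id]
  refine FlatMisc.etale_of_etale_fibres (𝟙 S) f fun s => ?_
  let κ := (𝟙 S : S ⟶ S).fiberι s
  haveI : IsIso ((𝟙 S : S ⟶ S).fiberToSpecResidueField s) :=
    inferInstanceAs (IsIso (pullback.snd (𝟙 S) (S.fromSpecResidueField s)))
  haveI : IsReduced ((𝟙 S : S ⟶ S).fiber s) :=
    isReduced_of_isOpenImmersion ((𝟙 S : S ⟶ S).fiberToSpecResidueField s)
  let b := pullback.snd i κ
  haveI : IsIso b := isIso_of_isClosedImmersion_of_surjective b
  let a := inv b ≫ pullback.fst i κ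
  have ha : a ≫ i = κ := by
    rw [Category.assoc, pullback.condition, IsIso.inv_hom_id_assoc]
  have sq := ((IsPullback.of_hasPullback (pullback.snd f i) a).paste_horiz (IsPullback.of_hasPullback f i))
  rw [ha] at sq
  change Etale (pullback.snd f κ)
  rw [← sq.isoPullback_inv_snd]
  exact MorphismProperty.comp_mem @Etale _ _ inferInstance
    (MorphismProperty.pullback_snd (P := @Etale) _ _ ‹_›)

end Groth.Agent.CentralMT
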