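import Groth.Agent.CentralMT.Props
import Groth.Agent.CompletePts.Basic
import Groth.Agent.GrpSchLib.ConjCentral
import Groth.Agent.GrpSchLib.HomUnitLocus

/-!
# Lifting central homomorphisms from the closed fibre over a complete local ring
-/

set_option linter.style.haveILetI false

universe u

open CategoryTheory CategoryTheory.Limits MonoidalCategory CartesianMonoidalCategory MonObj GrpObj AlgebraicGeometry

namespace Groth.Agent.CentralMT

set_option backward.isDefEq.respectTransparency.types false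

theorem surjective_fst_of_mem_range {S₀ S : Scheme.{u}} (i : S₀ ⟶ S) {X : Over S}
    (h : ∀ p : X.left, X.hom p ∈ Set.range i) : Surjective (pullback.fst X.hom i) := ⟨fun p => by
  obtain ⟨q, hq⟩ := h p
  obtain ⟨z, hz, -⟩ := Scheme.Pullback.exists_preimage_pullback (f := X.hom) (g := i) p q hq.symm
  exact ⟨z, hz⟩⟩

variable {A : Type u} [CommRing A] [IsLocalRing A]

/-- The inclusion of the closed fibre. -/
noncomputable abbrev ι₀ (A : Type u) [CommRing A] [IsLocalRing A] :
    Spec (CommRingCat.of (A ⧸ IsLocalRing.maximalIdeal A)) ⟶ Spec (CommRingCat.of A) :=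
  Spec.map (CommRingCat.ofHom (Ideal.Quotient.mk (IsLocalRing.maximalIdeal A)))

theorem closedPoint_mem_range : IsLocalRing.closedPoint A ∈ Set.range (ι₀ A) := by
  haveI : IsLocalRing (A ⧸ IsLocalRing.maximalIdeal A) := .of_surjective' _ Ideal.Quotient.mk_surjective
  haveI : IsLocalHom (Ideal.Quotient.mk (IsLocalRing.maximalIdeal A)) :=
    .of_surjective _ Ideal.Quotient.mk_surjective
  exact ⟨IsLocalRing.closedPoint _, IsLocalRing.comap_closedPoint _⟩

variable [IsNoetherianRing A] [IsAdicComplete (IsLocalRing.maximalIdeal A) A]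

/-- A central homomorphism out of a finite smooth group of multiplicative type lifts uniquely from the closed fibre,
and the lift is central on points over the closed point. -/
theorem exists_complete {M G : Over (Spec (CommRingCat.of A))} [GrpObj M] [GrpObj G] [IsFinite M.hom] [Smooth M.hom]
    (hM : SGA3x.IsMultTypeFT M) [Flat G.hom] [LocallyOfFiniteType G.hom]
    (u₀ : Red.bc (ι₀ A) M ⟶ Red.bc (ι₀ A) G) [IsMonHom u₀]
    (hc₀ : ∀ (X : Over _) (x : X ⟶ Red.bc (ι₀ A) M) (g : X ⟶ Red.bc (ι₀ A) G), (x ≫ u₀) * g = g * (x ≫ u₀)) :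
    (∃ u : M ⟶ G, IsMonHom u ∧ (Over.pullback (ι₀ A)).map u = u₀ ∧
      ∀ u' : M ⟶ G, IsMonHom u' → (Over.pullback (ι₀ A)).map u' = u₀ → u' = u) ∧
    ∀ u : M ⟶ G, IsMonHom u → (Over.pullback (ι₀ A)).map u = u₀ →
      ∀ (X : Over (Spec (CommRingCat.of A))), (∀ p, X.hom p = IsLocalRing.closedPoint A) →
        ∀ (x : X ⟶ M) (g : X ⟶ G), (x ≫ u) * g = g * (x ≫ u) := by
  let S := Spec (CommRingCat.of A)
  haveI := CompletePts.henselianLocalRing_of_complete (A := A)
  haveI : LocallyOfFinitePresentation G.hom := inferInstance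
  haveI : IsClosedImmersion (ι₀ A) := IsClosedImmersion.spec_of_surjective _ Ideal.Quotient.mk_surjective
  obtain ⟨V, n, hcp, hinv, hpow⟩ := exists_torsion hM (IsLocalRing.closedPoint A : S)
  have hV : ∀ q : S, q ∈ V := fun q => by
    rw [IsLocalRing.closed_point_mem_iff.mp hcp]
    trivial
  have htor : ∀ (X : Over S) (x : X ⟶ M), x ^ n = 1 := fun X x => hpow X x fun q => hV _
  let D : CentralTors u₀ := {
    V := fun _ => ⊤
    n := fun _ => n
    mem := fun _ => trivial
    inv := fun _ p _ => hinv p (hV _)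
    pow := fun _ X x _ => by
      have h1 : x ^ n = 1 := (DSPtsLib.theta_bijective (g := ι₀ A)).1 (by
        rw [theta_pow, GrpSchLib.HomUnitLocus.theta_one]
        exact htor _ _)
      rw [← MonObj.pow_comp, h1, MonObj.one_comp]
    central := hc₀ }
  have hTor : ∀ u : M ⟶ G, IsMonHom u → D.Tor u := fun u _ s X r _ => by
    rw [← MonObj.pow_comp, htor, MonObj.one_comp]
  have hcen : ∀ u : M ⟶ G, IsMonHom u → (Over.pullback (ι₀ A)).map u = u₀ →
      ∀ (X : Over S), (∀ p, X.hom p = IsLocalRing.closedPoint A) →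
        ∀ (x : X ⟶ M) (g : X ⟶ G), (x ≫ u) * g = g * (x ≫ u) := fun u hu hmap X hX x g => by
    haveI : Surjective (pullback.fst X.hom (ι₀ A)) :=
      surjective_fst_of_mem_range _ fun p => hX p ▸ closedPoint_mem_range
    exact D.central_lift' (hTor u hu) hmap X x g
  refine ⟨?_, hcen⟩
  -- existence
  let O := M.hom ⁻¹ᵁ (⊤ : S.Opens)
  haveI : IsIso O.ι := by
    have : O.ι.opensRange = ⊤ := (Scheme.Opens.opensRange_ι O).trans rfl
    exact isIso_of_isOpenImmersion_of_opensRange_eq_top _ this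
  haveI : IsFinite (Over.mk (O.ι ≫ M.hom)).hom := inferInstanceAs (IsFinite (O.ι ≫ M.hom))
  obtain ⟨a, ha, hamap⟩ := D.exists_local' (IsLocalRing.closedPoint A : S)
    fun U _ x₁ => CompletePts.exists_lift_etale _ U x₁
  let e : Over.mk (O.ι ≫ M.hom) ≅ M := Over.isoMk (asIso O.ι) rfl
  let u : M ⟶ G := e.inv ≫ a
  have hu : D.Tor u := fun s X r _ => by
    show (r ≫ e.inv ≫ a) ^ n = 1
    rw [← MonObj.comp_pow, ← MonObj.comp_pow, ha, MonObj.comp_one, MonObj.comp_one]
  have hmap : (Over.pullback (ι₀ A)).map u = u₀ := by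
    rw [Functor.map_comp, hamap, ← Category.assoc, ← Functor.map_comp,
      show Over.homMk O.ι rfl = e.hom from rfl, e.inv_hom_id, (Over.pullback (ι₀ A)).map_id, Category.id_comp]
  -- levels
  let lev : ∀ (F : Over S) (k : ℕ), Over S := fun F k => Over.mk (pullback.fst F.hom
    (Spec.map (CommRingCat.ofHom (Ideal.Quotient.mk (IsLocalRing.maximalIdeal A ^ (k + 1))))) ≫ F.hom)
  have hlev : ∀ F k, Surjective (pullback.fst (lev F k).hom (ι₀ A)) := fun F k => by
    refine surjective_fst_of_mem_range _ fun p => ?_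
    let ik := Spec.map (CommRingCat.ofHom (Ideal.Quotient.mk (IsLocalRing.maximalIdeal A ^ (k + 1))))
    have h : (lev F k).hom p = ik (pullback.snd F.hom ik p) := by
      show (pullback.fst F.hom ik ≫ F.hom) p = _
      rw [pullback.condition, Scheme.Hom.comp_apply]
    rw [h]
    suffices he : ik (pullback.snd F.hom ik p) = IsLocalRing.closedPoint A by
      rw [he]; exact closedPoint_mem_range
    apply PrimeSpectrum.ext
    show (ik (pullback.snd F.hom ik p)).asIdeal = IsLocalRing.maximalIdeal A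
    refine le_antisymm (IsLocalRing.le_maximalIdeal (ik (pullback.snd F.hom ik p)).2.ne_top) ?_
    refine ((ik (pullback.snd F.hom ik p)).2.pow_le_iff (k.succ_ne_zero)).mp fun r hr => ?_
    show Ideal.Quotient.mk _ r ∈ (pullback.snd F.hom ik p).asIdeal
    rw [Ideal.Quotient.eq_zero_iff_mem.mpr hr]
    exact zero_mem _
  let l : ∀ F k, lev F k ⟶ F := fun F k => Over.homMk (pullback.fst _ _) rfl
  have hmul : ∀ (X : Over S) (x y : X ⟶ M), (x * y) ≫ u = (x ≫ u) * (y ≫ u) := by
    suffices h : μ[M] ≫ u = ((fst M M) ≫ u) * ((snd M M) ≫ u) by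
      intro X x y
      rw [Hom.mul_def, Category.assoc, h, MonObj.comp_mul, lift_fst_assoc, lift_snd_assoc]
    haveI : IsFinite (M ⊗ M).hom := inferInstanceAs (IsFinite (pullback.fst M.hom M.hom ≫ M.hom))
    refine CompletePts.ext_of_levels _ _ fun k => congrArg (fun q => q.left)
      (?_ : l (M ⊗ M) k ≫ μ[M] ≫ u = l (M ⊗ M) k ≫ _)
    haveI := hlev (M ⊗ M) k
    rw [MonObj.comp_mul, ← Category.assoc (l (M ⊗ M) k) (fst M M), ← Category.assoc (l (M ⊗ M) k) (snd M M),
      ← D.mul_lift' hu hmap, ← MonObj.comp_mul, ← Category.assoc]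
    congr 2
    rw [Hom.mul_def, lift_fst_snd, Category.id_comp]
  haveI hum : IsMonHom u := by
    constructor
    · have h := hmul (𝟙_ (Over S)) 1 1
      rw [_root_.one_mul, left_eq_mul] at h
      simpa [Hom.one_def, toUnit_unique (toUnit (𝟙_ (Over S))) (𝟙 _)] using h
    · have h := hmul (M ⊗ M) (fst M M) (snd M M)
      rw [Hom.mul_def, lift_fst_snd, Category.id_comp] at h
      rw [h, Hom.mul_def]
      congr 1
  refine ⟨u, hum, hmap, fun u' hu' hmap' => CompletePts.ext_of_levels u' u fun k => congrArg (fun q => q.left)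
    (?_ : l M k ≫ u' = l M k ≫ u)⟩
  haveI := hlev M k
  exact D.eq_of_tor ((Over.pullback (ι₀ A)).map (l M k)) (by rw [Functor.map_comp, hmap'])
    (by rw [Functor.map_comp, hmap]) ((hTor u' hu').comp D _) (hu.comp D _)

/-- The lift is central when the fibres are connected. -/
theorem central_complete {M G : Over (Spec (CommRingCat.of A))} [GrpObj M] [GrpObj G] [IsFinite M.hom] [Smooth M.hom]
    (hM : SGA3x.IsMultTypeFT M) [Flat G.hom] [LocallyOfFiniteType G.hom]
    (hconn : ∀ s : Spec (CommRingCat.of A), _root_.IsConnected (G.hom ⁻¹' {s}))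
    (u₀ : Red.bc (ι₀ A) M ⟶ Red.bc (ι₀ A) G) [IsMonHom u₀]
    (hc₀ : ∀ (X : Over _) (x : X ⟶ Red.bc (ι₀ A) M) (g : X ⟶ Red.bc (ι₀ A) G), (x ≫ u₀) * g = g * (x ≫ u₀))
    (u : M ⟶ G) [IsMonHom u] (hmap : (Over.pullback (ι₀ A)).map u = u₀)
    (X : Over (Spec (CommRingCat.of A))) (x : X ⟶ M) (g : X ⟶ G) : (x ≫ u) * g = g * (x ≫ u) := by
  have hcen := (exists_complete hM u₀ hc₀).2 u inferInstance hmap
  let s : Spec (CommRingCat.of A) := IsLocalRing.closedPoint A
  let j := (Spec (CommRingCat.of A)).fromSpecResidueField s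
  obtain ⟨U, hsU, hU⟩ := GrpSchLib.ConjCentral.exists_nhd (u := u) hM hconn (s := s) fun Y g' h' => by
    refine (DSPtsLib.theta_bijective (g := j)).1 ?_
    rw [DSPtsLib.theta_mul, DSPtsLib.theta_mul,
      show DSPtsLib.theta j (h' ≫ (Over.pullback j).map u) = DSPtsLib.theta j h' ≫ u from
        (Over.mapPullbackAdj j).homEquiv_naturality_right_symm h' u]
    refine (hcen _ (fun p => ?_) _ _).symm
    show (Y.hom ≫ j) p = s
    rw [Scheme.Hom.comp_apply]
    exact Scheme.fromSpecResidueField_apply _ _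
  have htop : U = ⊤ := IsLocalRing.closed_point_mem_iff.mp hsU
  haveI : IsIso U.ι := by
    subst htop
    exact isIso_of_isOpenImmersion_of_opensRange_eq_top _ (Scheme.Opens.opensRange_ι _)
  exact (hU X (Over.homMk (X.hom ≫ inv U.ι) (by simp)) g x).symm

end Groth.Agent.CentralMT
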