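import Groth.Agent.CentralMT.Basic
import Groth.Agent.GrpSchLib.HomFibre
import Groth.Agent.S8395

/-!
# A power map is étale at the central points where the exponent is invertible
-/

set_option linter.style.haveILetI false

universe u

open CategoryTheory CategoryTheory.Limits MonoidalCategory CartesianMonoidalCategory MonObj GrpObj AlgebraicGeometry

namespace Groth.Agent.CentralMT

open GrpSchLib.Loci

set_option backward.isDefEq.respectTransparency.types false

/-- Étaleness of a morphism locally of finite presentation descends along a flat base change. -/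
theorem etale_down {A' A B' B : Scheme.{u}} {v : A' ⟶ A} {d' : A' ⟶ B'} {d : A ⟶ B} {q : B' ⟶ B}
    (h : IsPullback v d' d q) [Flat q] [LocallyOfFinitePresentation d] {x : A'} (hx : x ∈ loc @Etale d') :
    v x ∈ loc @Etale d := by
  haveI : LocallyOfFinitePresentation d' :=
    MorphismProperty.of_isPullback (P := @LocallyOfFinitePresentation) h ‹_›
  rw [etale_loc_eq] at hx ⊢
  refine ⟨?_, ?_⟩
  · rw [GrpSchLib.HomFibre.mem_loc_smooth_iff]
    have h1 := (GrpSchLib.HomFibre.mem_loc_smooth_iff d' x).mp hx.1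
    rw [S2155.result d q d' v h (.inr ‹_›)] at h1
    exact h1
  · obtain ⟨U, hxU, hU, -⟩ := hx.2
    have h1 : MorLib.UnrLocus.Loc d' x := ⟨U, hxU, hU⟩
    rw [← h.isoPullback_hom_snd, MorLib.UnrLocus.loc_comp_left, MorLib.UnrLocus.loc_pullback,
      ← Scheme.Hom.comp_apply, h.isoPullback_hom_fst] at h1
    obtain ⟨W, hW, hu⟩ := h1
    exact ⟨W, hW, hu, MorphismProperty.comp_mem @LocallyOfFinitePresentation _ _ inferInstance ‹_›⟩

variable {S : Scheme.{u}} (G : Over S) [GrpObj G]

/-- The open where the `n`-th power map is étale. -/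
noncomputable def W (n : ℕ) : G.left.Opens := ⟨loc @Etale ((𝟙 G : G ⟶ G) ^ n).left, isOpen_loc _ _⟩

/-- On that open the power map is étale. -/
theorem etale_W (n : ℕ) : Etale ((W G n).ι ≫ ((𝟙 G : G ⟶ G) ^ n).left) := by
  refine of_forall_mem @Etale _ fun x => ?_
  obtain ⟨U, hxU, hU⟩ := x.2
  refine ⟨(W G n).ι ⁻¹ᵁ U, hxU, ?_⟩
  rw [show ((W G n).ι ⁻¹ᵁ U).ι ≫ (W G n).ι ≫ ((𝟙 G : G ⟶ G) ^ n).left =
    ((W G n).ι ∣_ U) ≫ U.ι ≫ ((𝟙 G : G ⟶ G) ^ n).left by rw [morphismRestrict_ι_assoc]]
  exact MorphismProperty.comp_mem @Etale _ _ inferInstance hU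

variable {G}

/-- The power map is étale at a point which commutes with all points over it, if the exponent is invertible there. -/
theorem mem_W [Flat G.hom] [LocallyOfFinitePresentation G.hom] {K : Type u} [Field K]
    {σ : Spec (CommRingCat.of K) ⟶ S} (z : Over.mk σ ⟶ G)
    (hz : ∀ (X : Over S) (q : X ⟶ Over.mk σ) (g : X ⟶ G), (q ≫ z) * g = g * (q ≫ z))
    (n : ℕ) (hn : (n : K) ≠ 0) : z.left (IsLocalRing.closedPoint K) ∈ W G n := by
  let GK : Over (Spec (CommRingCat.of K)) := Red.bc σ G
  let p : (Over.map σ).obj (𝟙_ (Over (Spec (CommRingCat.of K)))) ⟶ Over.mk σ :=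
    Over.homMk (𝟙 _) (by simp)
  obtain ⟨g, hg⟩ := (DSPtsLib.theta_bijective (g := σ) (Y := 𝟙_ _) (H := G)).2 (p ≫ z)
  haveI : LocallyOfFiniteType GK.hom := inferInstanceAs (LocallyOfFiniteType (pullback.snd G.hom σ))
  obtain ⟨U, hU, hE⟩ := S8395.result K GK n hn g fun X x => (DSPtsLib.theta_bijective (g := σ)).1 (by
    rw [DSPtsLib.theta_mul, DSPtsLib.theta_mul, DSPtsLib.theta_comp, hg, ← Category.assoc]
    exact hz _ _ _)
  have hu : ((𝟙 GK : GK ⟶ GK) ^ n) = (Over.pullback σ).map ((𝟙 G : G ⟶ G) ^ n) := by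
    rw [map_pow, CategoryTheory.Functor.map_id]
  have hmem : g.left (IsLocalRing.closedPoint K) ∈
      loc @Etale ((Over.pullback σ).map ((𝟙 G : G ⟶ G) ^ n)).left := ⟨U, hU ⟨_, rfl⟩, hu ▸ hE⟩
  let s : S := σ (IsLocalRing.closedPoint K)
  let q : Spec (CommRingCat.of K) ⟶ Spec (S.residueField s) :=
    Spec.map (Scheme.descResidueField (Scheme.stalkClosedPointTo σ))
  have hq : q ≫ S.fromSpecResidueField s = σ := S.descResidueField_stalkClosedPointTo_fromSpecResidueField _ σ
  haveI : Flat q := by
    rw [HasRingHomProperty.Spec_iff (P := @Flat)]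
    exact RingHom.Flat.of_isField (Field.toIsField _) _
  let u := (𝟙 G : G ⟶ G) ^ n
  haveI := GrpSchLib.HomFibre.lfp_of_flat_lfp u
  haveI := GrpSchLib.HomFibre.fib_lfp u (S.fromSpecResidueField s)
  let a : pullback G.hom σ ⟶ pullback G.hom (S.fromSpecResidueField s) :=
    pullback.map _ _ _ _ (𝟙 _) q (𝟙 _) (by simp) (by rw [Category.comp_id, hq])
  have ha1 : a ≫ pullback.fst _ _ = pullback.fst G.hom σ := (pullback.lift_fst _ _ _).trans (Category.comp_id _)
  have ha2 : a ≫ pullback.snd _ _ = pullback.snd G.hom σ ≫ q := pullback.lift_snd _ _ _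
  have sqa : IsPullback a (pullback.snd G.hom σ) (pullback.snd G.hom (S.fromSpecResidueField s)) q := by
    refine IsPullback.of_right ?_ ha2 (IsPullback.of_hasPullback G.hom (S.fromSpecResidueField s))
    rw [ha1, hq]
    exact IsPullback.of_hasPullback G.hom σ
  have sq : IsPullback a ((Over.pullback σ).map u).left (GrpSchLib.HomFibre.fib u s).left a := by
    refine (IsPullback.of_right ?_ ?_ sqa.flip).flip
    · rw [show ((Over.pullback σ).map u).left ≫ pullback.snd G.hom σ = pullback.snd G.hom σ from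
        Over.w ((Over.pullback σ).map u),
        show (GrpSchLib.HomFibre.fib u s).left ≫ pullback.snd G.hom (S.fromSpecResidueField s) =
          pullback.snd G.hom (S.fromSpecResidueField s) from Over.w (GrpSchLib.HomFibre.fib u s)]
      exact sqa.flip
    · refine pullback.hom_ext ?_ ?_
      · simp only [Category.assoc]
        rw [show (GrpSchLib.HomFibre.fib u s).left ≫ pullback.fst G.hom (S.fromSpecResidueField s) =
          pullback.fst G.hom (S.fromSpecResidueField s) ≫ u.left from pullback.lift_fst _ _ _, ha1, reassoc_of% ha1]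
        exact pullback.lift_fst _ _ _
      · simp only [Category.assoc]
        rw [show (GrpSchLib.HomFibre.fib u s).left ≫ pullback.snd G.hom (S.fromSpecResidueField s) =
          pullback.snd G.hom (S.fromSpecResidueField s) from Over.w (GrpSchLib.HomFibre.fib u s), ha2,
          ← Category.assoc]
        congr 1
        exact Over.w ((Over.pullback σ).map u)
  haveI : Flat a := MorphismProperty.of_isPullback (P := @Flat) sqa.flip ‹_›
  have h1 := (GrpSchLib.HomFibre.etale_iff u s _).mp (etale_down sq hmem)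
  refine (?_ : z.left _ = GrpSchLib.HomFibre.incl G s (a (g.left (IsLocalRing.closedPoint K)))) ▸ h1
  have e : z.left = g.left ≫ pullback.fst G.hom σ := by
    rw [← DSPtsLib.theta_left, hg, Over.comp_left]
    exact (Category.id_comp _).symm
  rw [e]
  show (g.left ≫ pullback.fst G.hom σ) _ = (g.left ≫ a ≫ pullback.fst _ _) _
  rw [ha1]

end Groth.Agent.CentralMT
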