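import Groth.Agent.CentralMT.EtaleLocus
import Groth.Agent.EtFound.TopInv
import Mathlib.AlgebraicGeometry.Gluing

/-!
# Lifting central torsion maps from a closed subscheme with the same points
-/

set_option linter.style.haveILetI false

universe u

open CategoryTheory CategoryTheory.Limits MonoidalCategory CartesianMonoidalCategory MonObj GrpObj AlgebraicGeometry

namespace Groth.Agent.CentralMT

set_option backward.isDefEq.respectTransparency.types false

variable {S₀ S : Scheme.{u}} {i : S₀ ⟶ S} {G H : Over S} [GrpObj G]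

/-- A map into a group which is central and, locally on the base, killed by invertible integers. -/
structure CentralTors (u₀ : Red.bc i H ⟶ Red.bc i G) where
  /-- The opens of the base. -/
  V : S → S.Opens
  /-- The exponents. -/
  n : S → ℕ
  mem : ∀ s, s ∈ V s
  inv : ∀ s (p : H.left), H.hom p ∈ V s → (n s : H.left.residueField p) ≠ 0
  pow : ∀ s (X : Over S₀) (x : X ⟶ Red.bc i H), (∀ q, i (X.hom q) ∈ V s) → (x ≫ u₀) ^ n s = 1
  central : ∀ (X : Over S₀) (x : X ⟶ Red.bc i H) (g : X ⟶ Red.bc i G), (x ≫ u₀) * g = g * (x ≫ u₀)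

variable {u₀ : Red.bc i H ⟶ Red.bc i G} (D : CentralTors u₀)

/-- Locally killed by the given exponents. -/
def CentralTors.Tor {X : Over S} (a : X ⟶ G) : Prop :=
  ∀ s (X' : Over S) (r : X' ⟶ X), (∀ q, X'.hom q ∈ D.V s) → (r ≫ a) ^ D.n s = 1

theorem CentralTors.Tor.comp {X X' : Over S} {a : X ⟶ G} (h : D.Tor a) (r : X' ⟶ X) : D.Tor (r ≫ a) :=
  fun s Y r' hY => by rw [← Category.assoc]; exact h s Y _ hY

theorem hom_fst {X : Over S} (q₀ : (Red.bc i X).left) :
    X.hom (pullback.fst X.hom i q₀) = i ((Red.bc i X).hom q₀) := by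
  rw [← Scheme.Hom.comp_apply, pullback.condition, Scheme.Hom.comp_apply]
  rfl

theorem hom_comp_fst {X : Over S} (x₀ : Red.bc i X ⟶ Red.bc i H) (q₀ : (Red.bc i X).left) :
    H.hom (pullback.fst H.hom i (x₀.left q₀)) = X.hom (pullback.fst X.hom i q₀) := by
  rw [hom_fst, hom_fst]
  exact congrArg i ((Scheme.Hom.comp_apply _ _ _).symm.trans (congrArg (fun k => k q₀) (Over.w x₀)))

theorem fst_map {X Y : Over S} (a : X ⟶ Y) (q₀ : (Red.bc i X).left) :
    a.left (pullback.fst X.hom i q₀) = pullback.fst Y.hom i (((Over.pullback i).map a).left q₀) := by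
  rw [← Scheme.Hom.comp_apply, ← Scheme.Hom.comp_apply]
  exact congrArg (fun k : pullback X.hom i ⟶ Y.left => k q₀) (pullback.lift_fst _ _ _).symm

include D in
theorem CentralTors.mem_W [Flat G.hom] [LocallyOfFinitePresentation G.hom] (N : ℕ) (h₀ : (Red.bc i H).left)
    (hN : (N : H.left.residueField (pullback.fst H.hom i h₀)) ≠ 0) :
    pullback.fst G.hom i (u₀.left h₀) ∈ W G N := by
  let K : Type u := (Red.bc i H).left.residueField h₀
  let σ₀ : Spec (CommRingCat.of K) ⟶ S₀ := (Red.bc i H).left.fromSpecResidueField h₀ ≫ (Red.bc i H).hom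
  let pt : Over.mk σ₀ ⟶ Red.bc i H := Over.homMk ((Red.bc i H).left.fromSpecResidueField h₀) rfl
  let z : Over.mk (σ₀ ≫ i) ⟶ G := DSPtsLib.theta i (pt ≫ u₀)
  have hK : (N : K) ≠ 0 := fun h => hN (by
    apply ((pullback.fst H.hom i).residueFieldMap h₀).hom.injective
    rw [_root_.map_natCast, map_zero]
    exact h)
  have h1 := CentralMT.mem_W z (fun X q g => by
    let X₀ : Over S₀ := Over.mk (q.left ≫ σ₀)
    have hw : 𝟙 _ ≫ X.hom = ((Over.map i).obj X₀).hom := by
      show 𝟙 _ ≫ X.hom = (q.left ≫ σ₀) ≫ i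
      rw [Category.id_comp, Category.assoc]
      exact (Over.w q).symm
    let eX : (Over.map i).obj X₀ ≅ X := Over.isoMk (Iso.refl _) hw
    obtain ⟨g₀, hg₀⟩ := (DSPtsLib.theta_bijective (g := i) (Y := X₀) (H := G)).2 (eX.hom ≫ g)
    let q₀ : X₀ ⟶ Over.mk σ₀ := Over.homMk q.left rfl
    have e1 : eX.hom ≫ q ≫ z = DSPtsLib.theta i (q₀ ≫ pt ≫ u₀) := by
      rw [DSPtsLib.theta_comp]
      ext1
      exact Category.id_comp _
    have h := congrArg (DSPtsLib.theta i) (D.central X₀ (q₀ ≫ pt) g₀)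
    rw [DSPtsLib.theta_mul, DSPtsLib.theta_mul, Category.assoc, ← e1, hg₀, ← MonObj.comp_mul,
      ← MonObj.comp_mul] at h
    exact (cancel_epi eX.hom).mp h) N hK
  have e : z.left (IsLocalRing.closedPoint K) = pullback.fst G.hom i (u₀.left h₀) := by
    rw [DSPtsLib.theta_left, Over.comp_left, Category.assoc]
    show pullback.fst G.hom i (u₀.left ((Red.bc i H).left.fromSpecResidueField h₀ _)) = _
    rw [Scheme.fromSpecResidueField_apply]
  exact e ▸ h1

variable [IsClosedImmersion i]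

/-- Being covered by the restriction passes to schemes over a covered one. -/
theorem surjective_fst_comp {X' X : Over S} (r : X' ⟶ X) [Surjective (pullback.fst X.hom i)] :
    Surjective (pullback.fst X'.hom i) := ⟨fun p => by
  obtain ⟨q₀, hq₀⟩ := (pullback.fst X.hom i).surjective (r.left p)
  have h : X'.hom p = i (pullback.snd X.hom i q₀) := by
    rw [← Over.w r, Scheme.Hom.comp_apply, ← hq₀, ← Scheme.Hom.comp_apply, ← Scheme.Hom.comp_apply,
      pullback.condition]
  obtain ⟨z, hz, -⟩ := Scheme.Pullback.exists_preimage_pullback (f := X'.hom) (g := i) p (pullback.snd X.hom i q₀) h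
  exact ⟨z, hz⟩⟩

/-- Points with the same restriction, killed by the same invertible integer, agree. -/
theorem CentralTors.eq_of_pow [Flat G.hom] [LocallyOfFinitePresentation G.hom] (D : CentralTors u₀) {X : Over S}
    [Surjective (pullback.fst X.hom i)] (a b : X ⟶ G) (x₀ : Red.bc i X ⟶ Red.bc i H) (ha : (Over.pullback i).map a = x₀ ≫ u₀)
    (hb : (Over.pullback i).map b = x₀ ≫ u₀) (N : ℕ)
    (hN : ∀ q₀, (N : H.left.residueField (pullback.fst H.hom i (x₀.left q₀))) ≠ 0) (hpow : a ^ N = b ^ N) :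
    a = b := by
  have hr : ∀ c : X ⟶ G, (Over.pullback i).map c = x₀ ≫ u₀ → Set.range c.left ⊆ Set.range (W G N).ι := by
    rintro c hc _ ⟨p, rfl⟩
    obtain ⟨q₀, rfl⟩ := (pullback.fst X.hom i).surjective p
    rw [Scheme.Opens.range_ι, fst_map c q₀, hc]
    exact D.mem_W N _ (hN q₀)
  let la := IsOpenImmersion.lift (W G N).ι a.left (hr a ha)
  let lb := IsOpenImmersion.lift (W G N).ι b.left (hr b hb)
  haveI : Etale ((W G N).ι ≫ ((𝟙 G : G ⟶ G) ^ N).left) := etale_W G N
  have hp : ∀ c : X ⟶ G, c.left ≫ ((𝟙 G : G ⟶ G) ^ N).left = (c ^ N).left := fun c => by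
    rw [← Over.comp_left, MonObj.comp_pow, Category.comp_id]
  have h := eq_of_unramified ((W G N).ι ≫ ((𝟙 G : G ⟶ G) ^ N).left) la lb (by
    rw [IsOpenImmersion.lift_fac_assoc, IsOpenImmersion.lift_fac_assoc, hp, hp, hpow]) (pullback.fst X.hom i) (by
    rw [← cancel_mono (W G N).ι, Category.assoc, Category.assoc, IsOpenImmersion.lift_fac, IsOpenImmersion.lift_fac]
    have e := congrArg (fun k : Red.bc i X ⟶ Red.bc i G => k.left ≫ pullback.fst G.hom i) (ha.trans hb.symm)
    exact (pullback.lift_fst _ _ _).symm.trans (e.trans (pullback.lift_fst _ _ _)))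
  have h' := congrArg (· ≫ (W G N).ι) h
  simp only [la, lb, IsOpenImmersion.lift_fac] at h'
  exact Over.OverMorphism.ext h'

/-- Locally killed points with the same restriction agree. -/
theorem CentralTors.eq_of_tor [Flat G.hom] [LocallyOfFinitePresentation G.hom] {X : Over S}
    [Surjective (pullback.fst X.hom i)] {a b : X ⟶ G}
    (x₀ : Red.bc i X ⟶ Red.bc i H) (ha : (Over.pullback i).map a = x₀ ≫ u₀)
    (hb : (Over.pullback i).map b = x₀ ≫ u₀) (hta : D.Tor a) (htb : D.Tor b) : a = b := by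
  refine Over.OverMorphism.ext (Scheme.hom_ext_of_forall _ _ fun p => ?_)
  let s := X.hom p
  let U : X.left.Opens := X.hom ⁻¹ᵁ D.V s
  let r : Over.mk (U.ι ≫ X.hom) ⟶ X := Over.homMk U.ι rfl
  haveI : Surjective (pullback.fst (Over.mk (U.ι ≫ X.hom)).hom i) := surjective_fst_comp r
  refine ⟨U, D.mem s, congrArg (fun k => k.left) (D.eq_of_pow (r ≫ a) (r ≫ b) ((Over.pullback i).map r ≫ x₀) ?_ ?_
    (D.n s) (fun q₀ => D.inv s _ ?_) ((hta s _ r fun q => q.2).trans (htb s _ r fun q => q.2).symm))⟩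
  · rw [Functor.map_comp, ha, Category.assoc]
  · rw [Functor.map_comp, hb, Category.assoc]
  · rw [hom_comp_fst]
    exact (pullback.fst (U.ι ≫ X.hom) i q₀).2

variable [Flat G.hom] [LocallyOfFinitePresentation G.hom]

/-- The lift over one open, given that points of etale schemes lift. -/
theorem CentralTors.exists_local' (s : S)
    (hlift : ∀ (U : Over S) [Etale U.hom]
      (x₁ : Red.bc i (Over.mk ((H.hom ⁻¹ᵁ D.V s).ι ≫ H.hom)) ⟶ Red.bc i U),
      ∃ φ, (Over.pullback i).map φ = x₁) :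
    ∃ a : Over.mk ((H.hom ⁻¹ᵁ D.V s).ι ≫ H.hom) ⟶ G, a ^ D.n s = 1 ∧
      (Over.pullback i).map a = (Over.pullback i).map
        (Over.homMk (H.hom ⁻¹ᵁ D.V s).ι rfl : Over.mk ((H.hom ⁻¹ᵁ D.V s).ι ≫ H.hom) ⟶ H) ≫ u₀ := by
  let n := D.n s
  let HV : Over S := Over.mk ((H.hom ⁻¹ᵁ D.V s).ι ≫ H.hom)
  let r : HV ⟶ H := Over.homMk (H.hom ⁻¹ᵁ D.V s).ι rfl
  let x₀ := (Over.pullback i).map r ≫ u₀
  let z := DSPtsLib.theta i x₀
  let pw := (W G n).ι ≫ ((𝟙 G : G ⟶ G) ^ n).left
  haveI : Etale pw := etale_W G n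
  let U : Over S := Over.mk (pullback.snd pw η[G].left)
  haveI : Etale U.hom := MorphismProperty.pullback_snd (P := @Etale) _ _ ‹_›
  have hη : η[G].left ≫ G.hom = 𝟙 S := Over.w η[G]
  let k : U ⟶ G := Over.homMk (pullback.fst pw η[G].left ≫ (W G n).ι) (by
    have h := congrArg (· ≫ G.hom) (pullback.condition (f := pw) (g := η[G].left))
    simp only [pw, Category.assoc, Over.w ((𝟙 G : G ⟶ G) ^ n)] at h
    rw [hη] at h
    simp only [Category.assoc]
    exact h.trans (Category.comp_id _))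
  have hk : k ^ n = 1 := by
    have h1 : k ^ n = k ≫ (𝟙 G : G ⟶ G) ^ n := by rw [MonObj.comp_pow, Category.comp_id]
    rw [h1, Hom.one_def]
    refine Over.OverMorphism.ext ?_
    simp only [Over.comp_left, Over.toUnit_left, k, Over.homMk_left, Category.assoc]
    exact pullback.condition
  have hz : z ^ n = 1 := by
    rw [← theta_pow, show x₀ ^ n = 1 from D.pow s _ _ fun q => by
      rw [← hom_fst]
      exact (pullback.fst HV.hom i q).2, GrpSchLib.HomUnitLocus.theta_one]
  have hr : Set.range z.left ⊆ Set.range (W G n).ι := by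
    rintro _ ⟨q, rfl⟩
    rw [Scheme.Opens.range_ι, DSPtsLib.theta_left]
    refine D.mem_W n _ (D.inv s _ ?_)
    exact (congrArg (fun y => y ∈ D.V s) (hom_comp_fst ((Over.pullback i).map r) q)).mpr
      (pullback.fst HV.hom i q).2
  let l : (Over.map i).obj (Red.bc i HV) ⟶ U :=
    Over.homMk (pullback.lift (IsOpenImmersion.lift (W G n).ι z.left hr) ((Over.map i).obj (Red.bc i HV)).hom (by
      rw [IsOpenImmersion.lift_fac_assoc, ← Over.comp_left, MonObj.comp_pow, Category.comp_id, hz, Hom.one_def,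
        Over.comp_left, Over.toUnit_left])) (pullback.lift_snd _ _ _)
  obtain ⟨x₁, hx₁⟩ := (DSPtsLib.theta_bijective (g := i) (Y := Red.bc i HV) (H := U)).2 l
  obtain ⟨φ, hφ⟩ := hlift U x₁
  refine ⟨φ ≫ k, ?_, ?_⟩
  · rw [← MonObj.comp_pow, hk, MonObj.comp_one]
  · show _ = x₀
    rw [Functor.map_comp, hφ]
    apply (DSPtsLib.theta_bijective (g := i)).1
    rw [show DSPtsLib.theta i (x₁ ≫ (Over.pullback i).map k) = DSPtsLib.theta i x₁ ≫ k from
      (Over.mapPullbackAdj i).homEquiv_naturality_right_symm x₁ k, hx₁]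
    refine Over.OverMorphism.ext ?_
    simp only [Over.comp_left, l, k, Over.homMk_left]
    rw [pullback.lift_fst_assoc, IsOpenImmersion.lift_fac]

variable [Surjective i] [Etale H.hom]

/-- The lift over one open. -/
theorem CentralTors.exists_local (s : S) :
    ∃ a : Over.mk ((H.hom ⁻¹ᵁ D.V s).ι ≫ H.hom) ⟶ G, a ^ D.n s = 1 ∧
      (Over.pullback i).map a = (Over.pullback i).map
        (Over.homMk (H.hom ⁻¹ᵁ D.V s).ι rfl : Over.mk ((H.hom ⁻¹ᵁ D.V s).ι ≫ H.hom) ⟶ H) ≫ u₀ :=
  D.exists_local' s fun U _ x₁ => EtFound.surjective_pullback_map i U _ x₁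

/-- Central torsion maps from etale schemes lift, uniquely among locally killed maps. -/
theorem CentralTors.exists_lift : ∃ u : H ⟶ G, D.Tor u ∧ (Over.pullback i).map u = u₀ := by
  choose a ha₁ ha₂ using D.exists_local
  let O : S → H.left.Opens := fun s => H.hom ⁻¹ᵁ D.V s
  have hO : TopologicalSpace.IsOpenCover O :=
    top_unique fun p _ => TopologicalSpace.Opens.mem_iSup.mpr ⟨H.hom p, D.mem _⟩
  let 𝒰 : H.left.OpenCover := Scheme.openCoverOfIsOpenCover H.left O hO
  have hglue : ∀ s t, pullback.fst (O s).ι (O t).ι ≫ (a s).left = pullback.snd (O s).ι (O t).ι ≫ (a t).left := by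
    intro s t
    let R : Over S := Over.mk (pullback.fst (O s).ι (O t).ι ≫ (O s).ι ≫ H.hom)
    let rs : R ⟶ Over.mk ((O s).ι ≫ H.hom) := Over.homMk (pullback.fst _ _) rfl
    let rt : R ⟶ Over.mk ((O t).ι ≫ H.hom) := Over.homMk (pullback.snd _ _) (by
      show _ = pullback.fst _ _ ≫ (O s).ι ≫ H.hom
      rw [pullback.condition_assoc]
      rfl)
    let js : Over.mk ((O s).ι ≫ H.hom) ⟶ H := Over.homMk (O s).ι rfl
    let jt : Over.mk ((O t).ι ≫ H.hom) ⟶ H := Over.homMk (O t).ι rfl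
    have hj : rs ≫ js = rt ≫ jt := Over.OverMorphism.ext pullback.condition
    refine congrArg (fun k => k.left) (D.eq_of_pow (rs ≫ a s) (rt ≫ a t) ((Over.pullback i).map (rs ≫ js)) ?_ ?_
      (D.n s * D.n t) (fun q₀ => ?_) ?_)
    · rw [Functor.map_comp, ha₂, Functor.map_comp, Category.assoc]
    · rw [hj, Functor.map_comp, ha₂, Functor.map_comp, Category.assoc]
    · rw [Nat.cast_mul]
      refine mul_ne_zero (D.inv s _ ?_) (D.inv t _ ?_) <;>
        refine (congrArg (fun y => y ∈ D.V _) (hom_comp_fst ((Over.pullback i).map (rs ≫ js)) q₀)).mpr ?_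
      · exact (pullback.fst (O s).ι (O t).ι (pullback.fst R.hom i q₀)).2
      · show (pullback.fst (O s).ι (O t).ι ≫ (O s).ι ≫ H.hom) _ ∈ D.V t
        rw [pullback.condition_assoc]
        exact (pullback.snd (O s).ι (O t).ι (pullback.fst R.hom i q₀)).2
    · rw [pow_mul, ← MonObj.comp_pow, ha₁, MonObj.comp_one, one_pow, Nat.mul_comm, pow_mul, ← MonObj.comp_pow, ha₁,
        MonObj.comp_one, one_pow]
  let uu : H.left ⟶ G.left := 𝒰.glueMorphisms (fun s => (a s).left) hglue
  have hu : ∀ s, (O s).ι ≫ uu = (a s).left := fun s => 𝒰.ι_glueMorphisms (fun s => (a s).left) hglue s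
  let u : H ⟶ G := Over.homMk uu (Scheme.Cover.hom_ext 𝒰 _ _ fun s => by
    show (O s).ι ≫ uu ≫ G.hom = (O s).ι ≫ H.hom
    rw [← Category.assoc, hu]
    exact Over.w (a s))
  have hju : ∀ s, (Over.homMk (O s).ι rfl : Over.mk ((O s).ι ≫ H.hom) ⟶ H) ≫ u = a s :=
    fun s => Over.OverMorphism.ext (hu s)
  refine ⟨u, fun s X' r hX => ?_, ?_⟩
  · have hr : Set.range r.left ⊆ Set.range (O s).ι := by
      rintro _ ⟨q, rfl⟩
      rw [Scheme.Opens.range_ι]
      show H.hom (r.left q) ∈ D.V s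
      rw [← Scheme.Hom.comp_apply, Over.w r]
      exact hX q
    let l : X' ⟶ Over.mk ((O s).ι ≫ H.hom) := Over.homMk (IsOpenImmersion.lift (O s).ι r.left hr)
      ((IsOpenImmersion.lift_fac_assoc _ _ _ _).trans (Over.w r))
    have hl : l ≫ Over.homMk (O s).ι rfl = r := Over.OverMorphism.ext (IsOpenImmersion.lift_fac _ _ _)
    rw [← hl, Category.assoc, hju, ← MonObj.comp_pow, ha₁, MonObj.comp_one]
  · let B := Red.bc i H
    refine Over.OverMorphism.ext (Scheme.hom_ext_of_forall _ _ fun q₀ => ?_)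
    let s := H.hom (pullback.fst H.hom i q₀)
    let O' : B.left.Opens := pullback.fst H.hom i ⁻¹ᵁ O s
    let o : Over.mk (O'.ι ≫ B.hom) ⟶ B := Over.homMk O'.ι rfl
    refine ⟨O', D.mem s, congrArg (fun k => k.left) (?_ : o ≫ (Over.pullback i).map u = o ≫ u₀)⟩
    let l : (Over.map i).obj (Over.mk (O'.ι ≫ B.hom)) ⟶ Over.mk ((O s).ι ≫ H.hom) :=
      Over.homMk (pullback.fst H.hom i ∣_ O s) (by
        show (pullback.fst H.hom i ∣_ O s) ≫ (O s).ι ≫ H.hom = (O'.ι ≫ pullback.snd H.hom i) ≫ i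
        rw [morphismRestrict_ι_assoc, Category.assoc, pullback.condition])
    obtain ⟨l', hl'⟩ := (DSPtsLib.theta_bijective (g := i) (Y := Over.mk (O'.ι ≫ B.hom))
      (H := Over.mk ((O s).ι ≫ H.hom))).2 l
    let js : Over.mk ((O s).ι ≫ H.hom) ⟶ H := Over.homMk (O s).ι rfl
    have ho : o = l' ≫ (Over.pullback i).map js := by
      apply (DSPtsLib.theta_bijective (g := i)).1
      rw [show DSPtsLib.theta i (l' ≫ (Over.pullback i).map js) = DSPtsLib.theta i l' ≫ js from
        (Over.mapPullbackAdj i).homEquiv_naturality_right_symm l' js, hl']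
      refine Over.OverMorphism.ext ?_
      rw [DSPtsLib.theta_left]
      exact (morphismRestrict_ι _ _).symm
    rw [ho, Category.assoc, Category.assoc, ← Functor.map_comp, hju, ha₂]

end Groth.Agent.CentralMT
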