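import Groth.Agent.CentralMT.Lift
import Groth.Agent.GrpSchLib.MonoSubgroup
import Groth.Agent.MultTypeQI.Recognize
import Groth.Agent.S0118

/-!
# Properties of lifted central torsion maps
-/

set_option linter.style.haveILetI false

universe u

open CategoryTheory CategoryTheory.Limits MonoidalCategory CartesianMonoidalCategory MonObj GrpObj AlgebraicGeometry

namespace Groth.Agent.CentralMT

set_option backward.isDefEq.respectTransparency.types false

variable {S₀ S : Scheme.{u}} {i : S₀ ⟶ S} {G H : Over S} [GrpObj G]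

theorem map_grpInv {X Y : Over S} [GrpObj Y] (a : X ⟶ Y) :
    (Over.pullback i).map a⁻¹ = ((Over.pullback i).map a)⁻¹ := by
  refine eq_inv_of_mul_eq_one_left ?_
  rw [← Functor.map_mul, inv_mul_cancel, Functor.map_one]

variable {u₀ : Red.bc i H ⟶ Red.bc i G} (D : CentralTors u₀)

theorem CentralTors.tor_one {X : Over S} : D.Tor (1 : X ⟶ G) := fun s Y r _ => by
  rw [MonObj.comp_one, one_pow]

theorem CentralTors.Tor.inv {X : Over S} {a : X ⟶ G} (h : D.Tor a) : D.Tor a⁻¹ := fun s Y r hY => by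
  rw [GrpObj.comp_inv, inv_pow, h s Y r hY, inv_one]

theorem CentralTors.Tor.mul {X : Over S} {a b : X ⟶ G} (h : D.Tor a) (h' : D.Tor b)
    (hc : ∀ (Y : Over S) (r : Y ⟶ X), Commute (r ≫ a) (r ≫ b)) : D.Tor (a * b) := fun s Y r hY => by
  rw [MonObj.comp_mul, (hc Y r).mul_pow, h s Y r hY, h' s Y r hY, _root_.one_mul]

variable [IsClosedImmersion i] [Flat G.hom] [LocallyOfFinitePresentation G.hom]

/-- The lift is central on points covered by the restriction. -/
theorem CentralTors.central_lift' {u : H ⟶ G} (hu : D.Tor u) (hmap : (Over.pullback i).map u = u₀)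
    (X : Over S) [Surjective (pullback.fst X.hom i)] (x : X ⟶ H) (g : X ⟶ G) : (x ≫ u) * g = g * (x ≫ u) := by
  have h : g * (x ≫ u) * g⁻¹ = x ≫ u := by
    refine D.eq_of_tor ((Over.pullback i).map x) ?_ (by rw [Functor.map_comp, hmap]) ?_ (hu.comp D x)
    · rw [Functor.map_mul, Functor.map_mul, map_grpInv, Functor.map_comp, hmap, ← D.central, mul_inv_cancel_right]
    · intro s Y r hY
      rw [MonObj.comp_mul, MonObj.comp_mul, GrpObj.comp_inv, conj_pow, hu.comp D x s Y r hY, _root_.mul_one,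
        mul_inv_cancel]
  exact (mul_inv_eq_iff_eq_mul.mp h).symm

/-- The locally killed lift is multiplicative on points covered by the restriction. -/
theorem CentralTors.mul_lift' [GrpObj H] [IsMonHom u₀] {u : H ⟶ G} (hu : D.Tor u)
    (hmap : (Over.pullback i).map u = u₀) (X : Over S) [Surjective (pullback.fst X.hom i)] (x y : X ⟶ H) :
    (x * y) ≫ u = (x ≫ u) * (y ≫ u) := by
  refine D.eq_of_tor ((Over.pullback i).map (x * y)) (by rw [Functor.map_comp, hmap]) ?_ (hu.comp D _)
    ((hu.comp D x).mul D (hu.comp D y) fun Y r => ?_)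
  · rw [Functor.map_mul, Functor.map_comp, Functor.map_comp, hmap, Functor.map_mul, MonObj.mul_comp]
  · haveI : Surjective (pullback.fst Y.hom i) := surjective_fst_comp r
    show (r ≫ x ≫ u) * (r ≫ y ≫ u) = _
    rw [← Category.assoc]
    exact D.central_lift' hu hmap _ _ _

variable [Surjective i]

/-- The lift is central. -/
theorem CentralTors.central_lift {u : H ⟶ G} (hu : D.Tor u) (hmap : (Over.pullback i).map u = u₀)
    (X : Over S) (x : X ⟶ H) (g : X ⟶ G) : (x ≫ u) * g = g * (x ≫ u) :=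
  D.central_lift' hu hmap X x g

/-- The locally killed lift is a homomorphism if the given map is one. -/
theorem CentralTors.isMonHom_lift [GrpObj H] [IsMonHom u₀] {u : H ⟶ G} (hu : D.Tor u)
    (hmap : (Over.pullback i).map u = u₀) : IsMonHom u := by
  have hmul : ∀ (X : Over S) (x y : X ⟶ H), (x * y) ≫ u = (x ≫ u) * (y ≫ u) := fun X x y =>
    D.mul_lift' hu hmap X x y
  constructor
  · have h := hmul (𝟙_ (Over S)) 1 1
    rw [_root_.one_mul, left_eq_mul] at h
    simpa [Hom.one_def, toUnit_unique (toUnit (𝟙_ (Over S))) (𝟙 _)] using h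
  · have h := hmul (H ⊗ H) (fst H H) (snd H H)
    rw [Hom.mul_def, lift_fst_snd, Category.id_comp] at h
    rw [h, Hom.mul_def]
    congr 1

/-- Lifting a map between etale schemes. -/
theorem exists_lift_hom {X A : Over S} [Etale A.hom] (x₀ : Red.bc i X ⟶ Red.bc i A) :
    ∃ x : X ⟶ A, (Over.pullback i).map x = x₀ :=
  EtFound.surjective_pullback_map i A X x₀

theorem map_inj {X A : Over S} [Etale A.hom] {a b : X ⟶ A}
    (h : (Over.pullback i).map a = (Over.pullback i).map b) : a = b :=
  EtFound.injective_pullback_map i A X h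

omit [GrpObj G] [Flat G.hom] [LocallyOfFinitePresentation G.hom] in
/-- An isomorphism of the restrictions of etale group schemes comes from one of the group schemes. -/
theorem lift_grpIso {A B : Over S} [GrpObj A] [GrpObj B] [Etale A.hom] [Etale B.hom]
    (e : Grp.mk (Red.bc i A) ≅ Grp.mk (Red.bc i B)) : Nonempty (Grp.mk A ≅ Grp.mk B) := by
  obtain ⟨φ, hφ⟩ := exists_lift_hom (i := i) (X := A) (A := B) e.hom.hom.hom
  obtain ⟨ψ, hψ⟩ := exists_lift_hom (i := i) (X := B) (A := A) e.inv.hom.hom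
  let eo : A ≅ B := {
    hom := φ
    inv := ψ
    hom_inv_id := map_inj (i := i) (by
      rw [Functor.map_comp, hφ, hψ, CategoryTheory.Functor.map_id]
      exact congrArg (fun h => h.hom.hom) e.hom_inv_id)
    inv_hom_id := map_inj (i := i) (by
      rw [Functor.map_comp, hφ, hψ, CategoryTheory.Functor.map_id]
      exact congrArg (fun h => h.hom.hom) e.inv_hom_id) }
  have hM : IsMonHom e.hom.hom.hom := inferInstance
  have hmul : ∀ (X : Over S) (x y : X ⟶ A), (x * y) ≫ φ = (x ≫ φ) * (y ≫ φ) := fun X x y => map_inj (i := i) (by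
    simp only [Functor.map_comp, Functor.map_mul, hφ]
    exact MonObj.mul_comp ..)
  haveI : IsMonHom φ := by
    constructor
    · have h := hmul (𝟙_ (Over S)) 1 1
      rw [_root_.one_mul, left_eq_mul] at h
      simpa [Hom.one_def, toUnit_unique (toUnit (𝟙_ (Over S))) (𝟙 _)] using h
    · have h := hmul (A ⊗ A) (fst A A) (snd A A)
      rw [Hom.mul_def, lift_fst_snd, Category.id_comp] at h
      rw [h, Hom.mul_def]
      congr 1
  haveI : IsMonHom eo.hom := ‹IsMonHom φ›
  exact ⟨Grp.mkIso eo⟩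

omit [GrpObj G] [Flat G.hom] [LocallyOfFinitePresentation G.hom] in
/-- An etale scheme over a closed subscheme with the same points comes from one over the whole. -/
theorem exists_etale_lift_obj (H₀ : Over S₀) [Etale H₀.hom] :
    ∃ (H : Over S), Etale H.hom ∧ Nonempty (Red.bc i H ≅ H₀) := by
  haveI := S0118.result i
  let U₀ : S₀.Etale := MorphismProperty.Over.mk ⊤ H₀.hom ‹Etale H₀.hom›
  let U := (EtCoh.bc i).objPreimage U₀
  exact ⟨Over.mk U.hom, U.prop, ⟨(Scheme.Etale.forget S₀).mapIso ((EtCoh.bc i).objObjPreimageIso U₀)⟩⟩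

omit [GrpObj G] [Flat G.hom] [LocallyOfFinitePresentation G.hom] in
/-- An etale group scheme with a finite smooth group of multiplicative type as restriction is of multiplicative
type. -/
theorem isMultTypeFT_of_bc {H : Over S} [GrpObj H] [Etale H.hom] {H₀ : Over S₀} [GrpObj H₀] [IsFinite H₀.hom]
    [Smooth H₀.hom] (e : Grp.mk (Red.bc i H) ≅ Grp.mk H₀) (hm : SGA3x.IsMultTypeFT H₀) :
    SGA3x.IsMultTypeFT H := by
  refine MultTypeQI.isMultTypeFT_of_etale_locally fun s => ?_
  obtain ⟨s₀, rfl⟩ := i.surjective s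
  obtain ⟨S'₀, f₀, hf₀, ⟨y, hy⟩, M, _, hfg, ⟨eM⟩⟩ := MultTypeQI.etale_locally_diag hm s₀
  haveI : Etale (Over.mk f₀).hom := hf₀
  obtain ⟨T, hT, ⟨eT⟩⟩ := exists_etale_lift_obj (i := i) (Over.mk f₀)
  haveI := hT
  let S' := T.left
  let f : S' ⟶ S := T.hom
  let i' : S'₀ ⟶ S' := eT.inv.left ≫ pullback.fst T.hom i
  have hw : i' ≫ f = f₀ ≫ i := by
    simp only [i', f, Category.assoc, pullback.condition]
    rw [← Category.assoc]
    exact congrArg (· ≫ i) (Over.w eT.inv)
  haveI : IsIso eT.inv.left := (inferInstance : IsIso ((Over.forget _).map eT.inv))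
  haveI : IsClosedImmersion i' := MorphismProperty.comp_mem @IsClosedImmersion _ _ inferInstance
    (MorphismProperty.pullback_fst (P := @IsClosedImmersion) _ _ ‹_›)
  haveI : Surjective i' := MorphismProperty.comp_mem @Surjective _ _ inferInstance
    (MorphismProperty.pullback_fst (P := @Surjective) _ _ ‹_›)
  refine ⟨S', f, hT, ⟨i' y, ?_⟩, M, inferInstance, hfg, ?_⟩
  · rw [← Scheme.Hom.comp_apply, hw, Scheme.Hom.comp_apply, hy]
  obtain ⟨e₁⟩ := GrpSchLib.MultTypeBC.bc_bc i' f H
  obtain ⟨e₂⟩ := GrpSchLib.MultTypeBC.bc_congr hw H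
  obtain ⟨e₃⟩ := GrpSchLib.MultTypeBC.bc_bc f₀ i H
  obtain ⟨e₄⟩ := GrpSchLib.MultTypeBC.bc_iso f₀ e
  obtain ⟨e₅⟩ := GrpSchLib.MultTypeBC.bc_DS i' M
  let E := e₁ ≪≫ e₂ ≪≫ e₃.symm ≪≫ e₄ ≪≫ eM ≪≫ e₅.symm
  haveI : Etale (Red.bc f H).hom := MorphismProperty.pullback_snd (P := @Etale) _ _ ‹_›
  haveI : Etale (Red.DS S' M).hom := by
    haveI := MultTypeQI.flat_DS S' M
    haveI := hfg
    haveI := GrpSchLib.MultTypeLfp.lfp_DS S' M
    haveI : Etale (pullback.snd (Red.DS S' M).hom i') := by
      rw [show pullback.snd (Red.DS S' M).hom i' = E.inv.hom.hom.left ≫ (Red.bc i' (Red.bc f H)).hom from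
        (Over.w E.inv.hom.hom).symm]
      haveI : IsIso E.inv.hom.hom.left :=
        ⟨E.hom.hom.hom.left, congrArg (fun h => h.hom.hom.left) E.inv_hom_id,
          congrArg (fun h => h.hom.hom.left) E.hom_inv_id⟩
      exact MorphismProperty.comp_mem @Etale _ _ (inferInstanceAs (Etale E.inv.hom.hom.left))
        (MorphismProperty.pullback_snd (P := @Etale) _ _ ‹_›)
    exact etale_of_bc i' _
  exact lift_grpIso (i := i') E

end Groth.Agent.CentralMT
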